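import Mathlib
import Cfsg.Prelude.Def_PLocal

set_option autoImplicit false

universe u

namespace CfsgLib.Regular

open scoped commutatorElement

variable {G : Type u} [Group G] [Finite G] {p : ℕ} [Fact p.Prime]

/-- A maximal subgroup of a `p`-group contains all commutators and all `p`-th powers. -/
theorem coatom_facts (hG : IsPGroup p G) {M : Subgroup G} (hM : IsCoatom M) :
    commutator G ≤ M ∧ ∀ x : G, x ^ p ∈ M := by
  haveI := hG.isNilpotent
  haveI : M.Normal := Subgroup.NormalizerCondition.normal_of_coatom M Group.normalizerCondition_of_isNilpotent hM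
  haveI : Nontrivial (G ⧸ M) := QuotientGroup.nontrivial_iff.mpr hM.1
  haveI : IsSimpleGroup (G ⧸ M) := by
    refine ⟨fun H _ => ?_⟩
    have hle : M ≤ H.comap (QuotientGroup.mk' M) := fun m hm => by
      rw [Subgroup.mem_comap, QuotientGroup.mk'_apply, (QuotientGroup.eq_one_iff m).mpr hm]; exact H.one_mem
    rcases hle.lt_or_eq with h | h
    · right
      rw [← Subgroup.map_comap_eq_self_of_surjective (QuotientGroup.mk'_surjective M) H, hM.2 _ h,
        Subgroup.map_top_of_surjective _ (QuotientGroup.mk'_surjective M)]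
    · left
      rw [← Subgroup.map_comap_eq_self_of_surjective (QuotientGroup.mk'_surjective M) H, ← h, QuotientGroup.map_mk'_self]
  have hq : IsPGroup p (G ⧸ M) := hG.to_quotient M
  haveI := hq.center_nontrivial
  have hc : Subgroup.center (G ⧸ M) = ⊤ :=
    (IsSimpleGroup.eq_bot_or_eq_top_of_normal (Subgroup.center (G ⧸ M)) inferInstance).resolve_left
      ((Subgroup.nontrivial_iff_ne_bot _).mp inferInstance)
  have hcomm : ∀ x y : G ⧸ M, x * y = y * x := fun x y => Subgroup.mem_center_iff.mp (hc ▸ Subgroup.mem_top y) x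
  letI : CommGroup (G ⧸ M) := { (inferInstance : Group (G ⧸ M)) with mul_comm := hcomm }
  refine ⟨?_, fun x => ?_⟩
  · rw [commutator_def, Subgroup.commutator_le]
    intro x _ y _
    rw [← QuotientGroup.eq_one_iff, ← QuotientGroup.mk'_apply, map_commutatorElement, commutatorElement_eq_one_iff_mul_comm]
    exact hcomm _ _
  · have hcard := IsSimpleGroup.prime_card (α := G ⧸ M)
    obtain ⟨t, ht⟩ := IsPGroup.iff_card.mp hq
    rw [ht] at hcard
    have ht1 : t = 1 := Nat.Prime.eq_one_of_pow hcard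
    rw [← QuotientGroup.eq_one_iff, QuotientGroup.mk_pow]
    have := pow_card_eq_one' (x := (x : G ⧸ M))
    rwa [ht, ht1, pow_one] at this

/-- In a noncommutative two-generated `p`-subgroup `H`, no cyclic subgroup together with `H'` gives `H`. -/
theorem card_sup_commutator_lt (hG : IsPGroup p G) (H : Subgroup G) (hH : ¬ IsMulCommutative H) {w : G} (hw : w ∈ H) :
    Nat.card (Subgroup.zpowers w ⊔ ⁅H, H⁆ : Subgroup G) < Nat.card H := by
  have hle : Subgroup.zpowers w ⊔ ⁅H, H⁆ ≤ H := sup_le ((Subgroup.zpowers_le).mpr hw)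
    (Subgroup.commutator_le.mpr fun a ha b hb => H.mul_mem (H.mul_mem (H.mul_mem ha hb) (H.inv_mem ha)) (H.inv_mem hb))
  refine lt_of_le_of_ne (Subgroup.card_le_of_le hle) fun heq => hH ?_
  have hEq : Subgroup.zpowers w ⊔ ⁅H, H⁆ = H := Subgroup.eq_of_le_of_card_ge hle heq.ge
  have htop : Subgroup.zpowers (⟨w, hw⟩ : H) ⊔ commutator H = ⊤ := by
    apply Subgroup.map_injective H.subtype_injective
    rw [Subgroup.map_sup, MonoidHom.map_zpowers, commutator_def, Subgroup.map_commutator, ← MonoidHom.range_eq_map,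
      Subgroup.range_subtype]
    exact hEq
  have hfr : commutator H ≤ frattini H := by
    rw [frattini, Order.radical]
    exact le_iInf₂ fun M hM => (coatom_facts (hG.to_subgroup H) hM).1
  have hz : Subgroup.zpowers (⟨w, hw⟩ : H) = ⊤ :=
    frattini_nongenerating (eq_top_iff.mpr (htop.ge.trans (sup_le_sup le_rfl hfr)))
  haveI : IsCyclic H := ⟨⟨⟨w, hw⟩, fun x => Subgroup.mem_zpowers_iff.mp (hz.ge (Subgroup.mem_top x))⟩⟩
  exact ⟨⟨IsCyclic.commGroup.mul_comm⟩⟩

theorem card_commutator_lt (hG : IsPGroup p G) (H : Subgroup G) (hH : ¬ IsMulCommutative H) :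
    Nat.card (⁅H, H⁆ : Subgroup G) < Nat.card H :=
  lt_of_le_of_lt (Subgroup.card_le_of_le le_sup_right) (card_sup_commutator_lt hG H hH H.one_mem)

/-- `H'` lies in every subgroup normalised by `H` containing the commutator of two generators. -/
theorem commutator_closure_le {a b : G} {T : Subgroup G}
    (hT : ∀ g ∈ Subgroup.closure ({a, b} : Set G), ∀ x ∈ T, g * x * g⁻¹ ∈ T) (hab : ⁅a, b⁆ ∈ T) :
    ⁅Subgroup.closure ({a, b} : Set G), Subgroup.closure ({a, b} : Set G)⁆ ≤ T := by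
  set H := Subgroup.closure ({a, b} : Set G) with hH
  haveI : (T.subgroupOf H).Normal := ⟨fun x hx g => Subgroup.mem_subgroupOf.2 (hT g g.2 x (Subgroup.mem_subgroupOf.1 hx))⟩
  set π := QuotientGroup.mk' (T.subgroupOf H) with hπ
  have haH : a ∈ H := Subgroup.subset_closure (Set.mem_insert _ _)
  have hbH : b ∈ H := Subgroup.subset_closure (Set.mem_insert_of_mem _ rfl)
  have hc : Commute (π ⟨a, haH⟩) (π ⟨b, hbH⟩) := by
    rw [commute_iff_eq, ← commutatorElement_eq_one_iff_mul_comm, ← map_commutatorElement]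
    exact (QuotientGroup.eq_one_iff _).2 hab
  have hgen : ∀ (x : G) (hx : x ∈ H), π ⟨x, hx⟩ ∈ Subgroup.closure ({π ⟨a, haH⟩, π ⟨b, hbH⟩} : Set (H ⧸ T.subgroupOf H)) := by
    intro x hx
    induction hx using Subgroup.closure_induction with
    | mem x hx =>
      rcases hx with rfl | hxb
      · exact Subgroup.subset_closure (Set.mem_insert _ _)
      · exact Subgroup.subset_closure (Set.mem_insert_of_mem _ (congrArg π (Subtype.ext hxb)))
    | one => exact (map_one π).symm ▸ one_mem _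
    | mul x y hx hy h1 h2 => exact (map_mul π ⟨x, hx⟩ ⟨y, hy⟩).symm ▸ mul_mem h1 h2
    | inv x hx h1 => exact (map_inv π ⟨x, hx⟩).symm ▸ inv_mem h1
  haveI := Subgroup.isMulCommutative_closure (k := ({π ⟨a, haH⟩, π ⟨b, hbH⟩} : Set (H ⧸ T.subgroupOf H))) (by
    rintro u (rfl | rfl) v (rfl | rfl)
    exacts [rfl, hc.eq, hc.eq.symm, rfl])
  rw [Subgroup.commutator_le]
  intro x hx y hy
  have h1 : π ⁅(⟨x, hx⟩ : H), ⟨y, hy⟩⁆ = 1 := by
    rw [map_commutatorElement, commutatorElement_eq_one_iff_mul_comm]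
    exact congrArg Subtype.val (mul_comm' (⟨_, hgen x hx⟩ : Subgroup.closure ({π ⟨a, haH⟩, π ⟨b, hbH⟩} : Set (H ⧸ T.subgroupOf H))) ⟨_, hgen y hy⟩)
  exact Subgroup.mem_subgroupOf.1 ((QuotientGroup.eq_one_iff _).1 h1)

theorem commute_of_isMulCommutative {H : Subgroup G} (hH : IsMulCommutative H) {a b : G} (ha : a ∈ H) (hb : b ∈ H) :
    Commute a b :=
  congrArg Subtype.val (mul_comm' (⟨a, ha⟩ : H) ⟨b, hb⟩)

theorem commutator_normalized (H : Subgroup G) : ∀ g ∈ H, ∀ x ∈ (⁅H, H⁆ : Subgroup G), g * x * g⁻¹ ∈ (⁅H, H⁆ : Subgroup G) := by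
  intro g hg x hx
  have h1 := (Subgroup.map_commutator H H (MulAut.conj g).toMonoidHom)
  have h2 : H.map (MulAut.conj g).toMonoidHom = H := by
    apply Subgroup.eq_of_le_of_card_ge
    · rintro _ ⟨y, hy, rfl⟩
      exact H.mul_mem (H.mul_mem hg hy) (H.inv_mem hg)
    · rw [Subgroup.card_map_of_injective (MulAut.conj g).injective]
  rw [h2] at h1
  exact h1 ▸ ⟨x, hx, rfl⟩

variable (hreg : Cfsg.IsRegularPGroup p G)
include hreg

/-- Elements killed by `p^k` are closed under multiplication. -/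
theorem torsion_mul (k : ℕ) {a b : G} (ha : a ^ p ^ k = 1) (hb : b ^ p ^ k = 1) : (a * b) ^ p ^ k = 1 := by
  suffices h : ∀ (N : ℕ) (H : Subgroup G), Nat.card H = N → ∀ x ∈ H, ∀ y ∈ H, x ^ p ^ k = 1 → y ^ p ^ k = 1 → (x * y) ^ p ^ k = 1 from
    h _ ⊤ rfl a trivial b trivial ha hb
  intro N
  induction N using Nat.strong_induction_on with
  | _ N ih =>
    intro H hN x hx y hy hxq hyq
    set K := Subgroup.closure ({x, y} : Set G) with hK
    have hKH : K ≤ H := (Subgroup.closure_le _).mpr (by rintro z (rfl | rfl) <;> assumption)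
    by_cases hKc : IsMulCommutative K
    · rw [(commute_of_isMulCommutative hKc (Subgroup.subset_closure (Set.mem_insert _ _))
        (Subgroup.subset_closure (Set.mem_insert_of_mem _ rfl))).mul_pow, hxq, hyq, one_mul]
    have hxK : x ∈ K := Subgroup.subset_closure (Set.mem_insert _ _)
    have hyK : y ∈ K := Subgroup.subset_closure (Set.mem_insert_of_mem _ rfl)
    have hcardK : Nat.card K ≤ N := hN ▸ Subgroup.card_le_of_le hKH
    set D : Subgroup G := ⁅K, K⁆ with hD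
    have hcm : ⁅x, y⁆ ^ p ^ k = 1 := by
      have hlt := card_sup_commutator_lt hreg.1 K hKc hxK
      rw [commutatorElement_def, mul_assoc x y, mul_assoc x]
      refine ih _ (hlt.trans_le hcardK) _ rfl x (Subgroup.mem_sup_left (Subgroup.mem_zpowers _)) (y * x⁻¹ * y⁻¹) ?_ hxq
        (by rw [conj_pow, inv_pow, hxq, inv_one, mul_one, mul_inv_cancel])
      have h1 : ⁅y, x⁻¹⁆ ∈ D := Subgroup.commutator_mem_commutator hyK (K.inv_mem hxK)
      rw [show y * x⁻¹ * y⁻¹ = ⁅y, x⁻¹⁆ * x⁻¹ by rw [commutatorElement_def]; group]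
      exact mul_mem (Subgroup.mem_sup_right h1) (inv_mem (Subgroup.mem_sup_left (Subgroup.mem_zpowers _)))
    have hlt : Nat.card D < N := (card_commutator_lt hreg.1 K hKc).trans_le hcardK
    let T : Subgroup G :=
      { carrier := {z | z ∈ D ∧ z ^ p ^ k = 1}
        one_mem' := ⟨D.one_mem, one_pow _⟩
        mul_mem' := fun {s t} hs ht => ⟨D.mul_mem hs.1 ht.1, ih _ hlt D rfl s hs.1 t ht.1 hs.2 ht.2⟩
        inv_mem' := fun {s} hs => ⟨D.inv_mem hs.1, by rw [inv_pow, hs.2, inv_one]⟩ }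
    have hDT : D ≤ T := commutator_closure_le (fun g hg z hz => ⟨commutator_normalized K g hg z hz.1, by
      rw [conj_pow, hz.2, mul_one, mul_inv_cancel]⟩) ⟨Subgroup.commutator_mem_commutator hxK hyK, hcm⟩
    obtain ⟨c, hc, he⟩ := hreg.2 x y k
    have hc1 : Cfsg.powerClosure p k D = ⊥ := by
      rw [Cfsg.powerClosure, Subgroup.closure_eq_bot_iff]
      rintro _ ⟨z, hz, rfl⟩
      exact (hDT hz).2
    rw [he, hxq, hyq, show c = 1 from Subgroup.mem_bot.mp (hc1 ▸ hc), one_mul, one_mul]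

/-- The subgroup of elements killed by `p^k`. -/
def omega (k : ℕ) : Subgroup G where
  carrier := {x | x ^ p ^ k = 1}
  one_mem' := one_pow _
  mul_mem' := fun ha hb => torsion_mul hreg k ha hb
  inv_mem' := fun {a} ha => by
    show a⁻¹ ^ p ^ k = 1
    rw [inv_pow, ha, inv_one]

theorem powerClosure_commutator_eq_bot (k : ℕ) {a b : G} (h : ⁅a, b⁆ ^ p ^ k = 1) :
    Cfsg.powerClosure p k ⁅Subgroup.closure ({a, b} : Set G), Subgroup.closure ({a, b} : Set G)⁆ = ⊥ := by
  have hle := commutator_closure_le (a := a) (b := b) (T := omega hreg k) (fun g _ z hz => by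
    show (g * z * g⁻¹) ^ p ^ k = 1
    rw [conj_pow, show z ^ p ^ k = 1 from hz, mul_one, mul_inv_cancel]) h
  rw [Cfsg.powerClosure, Subgroup.closure_eq_bot_iff]
  rintro _ ⟨z, hz, rfl⟩
  exact hle hz

/-- Equal `p^k`-th powers force the quotient to be killed by `p^k`. -/
theorem torsion_of_pow_eq (k : ℕ) {a b : G} (h : a ^ p ^ k = b ^ p ^ k) : (a * b⁻¹) ^ p ^ k = 1 := by
  suffices h' : ∀ (N : ℕ) (H : Subgroup G), Nat.card H = N → ∀ x ∈ H, ∀ y ∈ H, x ^ p ^ k = y ^ p ^ k → (x * y⁻¹) ^ p ^ k = 1 from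
    h' _ ⊤ rfl a trivial b trivial h
  intro N
  induction N using Nat.strong_induction_on with
  | _ N ih =>
    intro H hN x hx y hy he
    set K := Subgroup.closure ({x, y⁻¹} : Set G) with hK
    have hKH : K ≤ H := (Subgroup.closure_le _).mpr (by rintro z (rfl | rfl); exacts [hx, H.inv_mem hy])
    have hxK : x ∈ K := Subgroup.subset_closure (Set.mem_insert _ _)
    have hyK : y⁻¹ ∈ K := Subgroup.subset_closure (Set.mem_insert_of_mem _ rfl)
    by_cases hKc : IsMulCommutative K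
    · rw [(commute_of_isMulCommutative hKc hxK hyK).mul_pow, inv_pow, he, mul_inv_cancel]
    have hc1 : (y⁻¹ * x * y⁻¹⁻¹) ^ p ^ k = x ^ p ^ k := by
      rw [conj_pow, he, inv_inv, mul_assoc, (Commute.pow_self y (p ^ k)).eq, inv_mul_cancel_left]
    have hcm : ⁅y⁻¹, x⁆ ^ p ^ k = 1 := by
      have hlt := (card_sup_commutator_lt hreg.1 K hKc hxK).trans_le (hN ▸ Subgroup.card_le_of_le hKH)
      rw [commutatorElement_def]
      refine ih _ hlt _ rfl _ ?_ x (Subgroup.mem_sup_left (Subgroup.mem_zpowers _)) hc1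
      rw [show y⁻¹ * x * y⁻¹⁻¹ = ⁅y⁻¹, x⁆ * x by rw [commutatorElement_def]; group]
      exact mul_mem (Subgroup.mem_sup_right (Subgroup.commutator_mem_commutator hyK hxK))
        (Subgroup.mem_sup_left (Subgroup.mem_zpowers _))
    have hcm' : ⁅x, y⁻¹⁆ ^ p ^ k = 1 := by rw [← commutatorElement_inv, inv_pow, hcm, inv_one]
    obtain ⟨c, hc, hmul⟩ := hreg.2 x y⁻¹ k
    rw [hmul, inv_pow, he, mul_inv_cancel, one_mul,
      show c = 1 from Subgroup.mem_bot.mp (powerClosure_commutator_eq_bot hreg k hcm' ▸ hc)]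

theorem pow_eq_iff (k : ℕ) (a b : G) : a ^ p ^ k = b ^ p ^ k ↔ (a * b⁻¹) ^ p ^ k = 1 := by
  refine ⟨torsion_of_pow_eq hreg k, fun h => ?_⟩
  set u := a * b⁻¹ with hu
  have hcm : ⁅u, b⁆ ^ p ^ k = 1 := by
    rw [commutatorElement_def, mul_assoc u b, mul_assoc u]
    exact torsion_mul hreg k h (by rw [conj_pow, inv_pow, h, inv_one, mul_one, mul_inv_cancel])
  obtain ⟨c, hc, hmul⟩ := hreg.2 u b k
  rw [hu, inv_mul_cancel_right, ← hu, h, one_mul, show c = 1 from Subgroup.mem_bot.mp (powerClosure_commutator_eq_bot hreg k hcm ▸ hc),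
    mul_one] at hmul
  exact hmul

theorem commute_pow_iff (k : ℕ) (a b : G) :
    a ^ p ^ k * b = b * a ^ p ^ k ↔ (a⁻¹ * b⁻¹ * a * b) ^ p ^ k = 1 := by
  have h1 : (a ^ p ^ k * b = b * a ^ p ^ k) ↔ (b⁻¹ * a * b⁻¹⁻¹) ^ p ^ k = a ^ p ^ k := by
    rw [conj_pow, inv_inv, mul_assoc, inv_mul_eq_iff_eq_mul]
  have h2 : a⁻¹ * b⁻¹ * a * b = a⁻¹ * ((b⁻¹ * a * b⁻¹⁻¹) * a⁻¹) * a⁻¹⁻¹ := by group
  rw [h1, pow_eq_iff hreg k, h2, conj_pow]
  constructor
  · intro h; rw [h, mul_one, mul_inv_cancel]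
  · intro h
    rw [mul_inv_eq_one] at h
    exact mul_eq_left.mp h

/-- Products of `p^n`-th powers are `p^n`-th powers. -/
theorem pow_mul_pow (n : ℕ) {H : Subgroup G} {x y : G} (hx : x ∈ H) (hy : y ∈ H) :
    ∃ z ∈ H, x ^ p ^ n * y ^ p ^ n = z ^ p ^ n := by
  suffices h' : ∀ (N : ℕ) (K : Subgroup G), Nat.card K = N → ∀ x ∈ K, ∀ y ∈ K, ∃ z ∈ K, x ^ p ^ n * y ^ p ^ n = z ^ p ^ n from
    h' _ H rfl x hx y hy
  intro N
  induction N using Nat.strong_induction_on with
  | _ N ih =>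
    intro K0 hN x hx y hy
    set K := Subgroup.closure ({x, y} : Set G) with hK
    have hKH : K ≤ K0 := (Subgroup.closure_le _).mpr (by rintro z (rfl | rfl) <;> assumption)
    have hxK : x ∈ K := Subgroup.subset_closure (Set.mem_insert _ _)
    have hyK : y ∈ K := Subgroup.subset_closure (Set.mem_insert_of_mem _ rfl)
    by_cases hKc : IsMulCommutative K
    · exact ⟨x * y, K0.mul_mem hx hy, ((commute_of_isMulCommutative hKc hxK hyK).mul_pow _).symm⟩
    have hcardK : Nat.card K ≤ N := hN ▸ Subgroup.card_le_of_le hKH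
    set D : Subgroup G := ⁅K, K⁆ with hD
    have hDK : D ≤ K := Subgroup.commutator_le.mpr fun a ha b hb => K.mul_mem (K.mul_mem (K.mul_mem ha hb) (K.inv_mem ha)) (K.inv_mem hb)
    obtain ⟨c, hc, he⟩ := hreg.2 x y n
    obtain ⟨d, hd, hcd⟩ : ∃ d ∈ D, c = d ^ p ^ n := by
      clear he
      induction hc using Subgroup.closure_induction with
      | mem z hz => exact hz
      | one => exact ⟨1, D.one_mem, (one_pow _).symm⟩
      | mul u v _ _ h1 h2 =>
        obtain ⟨d1, hd1, rfl⟩ := h1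
        obtain ⟨d2, hd2, rfl⟩ := h2
        exact ih _ ((card_commutator_lt hreg.1 K hKc).trans_le hcardK) D rfl d1 hd1 d2 hd2
      | inv u _ h1 =>
        obtain ⟨d1, hd1, rfl⟩ := h1
        exact ⟨d1⁻¹, D.inv_mem hd1, (inv_pow _ _).symm⟩
    obtain ⟨z, hz, hzz⟩ := ih _ ((card_sup_commutator_lt hreg.1 K hKc (K.mul_mem hxK hyK)).trans_le hcardK) _ rfl
      (x * y) (Subgroup.mem_sup_left (Subgroup.mem_zpowers _)) d⁻¹ (Subgroup.mem_sup_right (D.inv_mem hd))
    refine ⟨z, hKH ((sup_le ((Subgroup.zpowers_le).mpr (K.mul_mem hxK hyK)) hDK) hz), ?_⟩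
    rw [← hzz, he, hcd, inv_pow, mul_inv_cancel_right]

theorem powerClosure_eq (n : ℕ) (H : Subgroup G) :
    {y : G | ∃ x ∈ H, y = x ^ p ^ n} = (Cfsg.powerClosure p n H : Set G) := by
  refine Set.Subset.antisymm Subgroup.subset_closure fun z hz => ?_
  induction hz using Subgroup.closure_induction with
  | mem z hz => exact hz
  | one => exact ⟨1, H.one_mem, (one_pow _).symm⟩
  | mul u v _ _ h1 h2 =>
    obtain ⟨d1, hd1, rfl⟩ := h1
    obtain ⟨d2, hd2, rfl⟩ := h2
    exact pow_mul_pow hreg n hd1 hd2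
  | inv u _ h1 =>
    obtain ⟨d1, hd1, rfl⟩ := h1
    exact ⟨d1⁻¹, H.inv_mem hd1, (inv_pow _ _).symm⟩

theorem commutator_powerClosure_le (n : ℕ) (H : Subgroup G) :
    ⁅Cfsg.powerClosure p n H, Cfsg.powerClosure p n H⁆ ≤ Cfsg.powerClosure p n ⁅H, H⁆ := by
  rw [Subgroup.commutator_le]
  intro u hu v hv
  rw [← SetLike.mem_coe, ← powerClosure_eq hreg] at hu hv
  obtain ⟨x, hx, rfl⟩ := hu
  obtain ⟨y, hy, rfl⟩ := hv
  set g := x ^ p ^ n with hg
  have hgH : g ∈ H := H.pow_mem hx _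
  set w := g * y * g⁻¹ with hw
  have hwH : w ∈ H := H.mul_mem (H.mul_mem hgH hy) (H.inv_mem hgH)
  obtain ⟨c, hc, he⟩ := hreg.2 w y⁻¹ n
  have hc' : c ∈ Cfsg.powerClosure p n ⁅H, H⁆ := by
    refine Subgroup.closure_mono ?_ hc
    rintro _ ⟨z, hz, rfl⟩
    refine ⟨z, Subgroup.commutator_mono ?_ ?_ hz, rfl⟩ <;>
      exact (Subgroup.closure_le _).mpr (by rintro z (rfl | rfl); exacts [hwH, H.inv_mem hy])
  have h1 : ⁅g, y ^ p ^ n⁆ = w ^ p ^ n * y⁻¹ ^ p ^ n := by rw [hw, conj_pow, inv_pow, commutatorElement_def]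
  rw [h1, ← mul_inv_eq_iff_eq_mul.mpr he]
  refine Subgroup.mul_mem _ (Subgroup.subset_closure ⟨w * y⁻¹, ?_, rfl⟩) (Subgroup.inv_mem _ hc')
  exact Subgroup.commutator_mem_commutator hgH hy

end CfsgLib.Regular
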