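import Cfsg.Agent.Lib.Regular.Kemhadze
import Cfsg.Agent.Lib.Regular.Petresco

set_option autoImplicit false

universe u

namespace CfsgLib.Regular

open scoped commutatorElement

/-- A `p`-group of class less than `p` is regular. -/
theorem regular_of_class {p : ℕ} [Fact p.Prime] (N : ℕ) : ∀ (G : Type u) [Group G] [Finite G], Nat.card G = N →
    IsPGroup p G → (⊤ : Subgroup G).lowerCentralSeries (p - 1) = ⊥ → Cfsg.IsRegularPGroup p G := by
  induction N using Nat.strong_induction_on with
  | _ N ih =>
    intro G _ _ hN hG hcl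
    refine regular_of_condition hG fun a b => ?_
    set K := Subgroup.closure ({a, b} : Set G) with hK
    have haK : a ∈ K := Subgroup.subset_closure (Set.mem_insert _ _)
    have hbK : b ∈ K := Subgroup.subset_closure (Set.mem_insert_of_mem _ rfl)
    by_cases hKc : IsMulCommutative K
    · exact ⟨1, Subgroup.one_mem _, by rw [(commute_of_isMulCommutative hKc haK hbK).mul_pow, one_pow, mul_one]⟩
    have hclsub : ∀ H : Subgroup G, (⊤ : Subgroup H).lowerCentralSeries (p - 1) = ⊥ := by
      intro H
      have hle : ∀ n, H.lowerCentralSeries n ≤ (⊤ : Subgroup G).lowerCentralSeries n := by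
        intro n
        induction n with
        | zero => exact le_top
        | succ n ihn => exact Subgroup.commutator_mono ihn le_top
      apply Subgroup.map_injective H.subtype_injective
      rw [Subgroup.top_subtype_lowerCentralSeries, Subgroup.map_bot, ← le_bot_iff, ← hcl]
      exact hle _
    obtain ⟨z, hz, he⟩ := Petresco.pow_mul_formula (G := K) (Fact.out : p.Prime) (hclsub K) ⟨a, haK⟩ ⟨b, hbK⟩
    set D : Subgroup G := ⁅K, K⁆ with hD
    have hregD : Cfsg.IsRegularPGroup p D :=
      ih _ ((card_commutator_lt hG K hKc).trans_le (hN ▸ Subgroup.card_le_card_group K)) D rfl (hG.to_subgroup D) (hclsub D)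
    have hsub : (Cfsg.powerClosure p 1 (commutator K)).map K.subtype ≤
        (Cfsg.powerClosure p 1 (⊤ : Subgroup D)).map D.subtype := by
      rw [Cfsg.powerClosure, MonoidHom.map_closure, Subgroup.closure_le]
      rintro _ ⟨_, ⟨x, hx, rfl⟩, rfl⟩
      have hxD : (x : G) ∈ D := by
        have := Subgroup.mem_map_of_mem K.subtype hx
        rwa [commutator_def, Subgroup.map_commutator, ← MonoidHom.range_eq_map, Subgroup.range_subtype] at this
      exact ⟨⟨(x : G), hxD⟩ ^ p ^ 1, Subgroup.subset_closure ⟨⟨(x : G), hxD⟩, trivial, rfl⟩, by simp⟩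
    obtain ⟨w, hw, hwe⟩ := hsub ⟨z, hz, rfl⟩
    rw [← powerClosure_eq hregD 1 ⊤] at hw
    obtain ⟨d, -, rfl⟩ := hw
    refine ⟨(d : G), d.2, ?_⟩
    have h1 := congrArg Subtype.val he
    simp only [Subgroup.coe_mul, SubgroupClass.coe_pow] at h1
    rw [pow_one] at hwe
    rw [h1]
    congr 1
    exact hwe.symm.trans (by simp)

end CfsgLib.Regular
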