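import Cfsg.Agent.Lib.Regular.Basic

set_option autoImplicit false

universe u

namespace CfsgLib.Regular

open scoped commutatorElement

/-- Kemhadze's condition, on the subgroups of a fixed group. -/
theorem regular_of_condition {G : Type u} [Group G] [Finite G] {p : ℕ} [Fact p.Prime] (hG : IsPGroup p G)
    (h : ∀ a b : G, ∃ c ∈ ⁅Subgroup.closure ({a, b} : Set G), Subgroup.closure ({a, b} : Set G)⁆,
      (a * b) ^ p = a ^ p * b ^ p * c ^ p) : Cfsg.IsRegularPGroup p G := by
  classical
  suffices key : ∀ (N : ℕ) (H : Subgroup G), Nat.card H = N → Cfsg.IsRegularPGroup p H by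
    have := key _ ⊤ rfl
    refine ⟨hG, fun a b n => ?_⟩
    obtain ⟨c, hc, he⟩ := this.2 ⟨a, trivial⟩ ⟨b, trivial⟩ n
    refine ⟨(c : G), ?_, congrArg Subtype.val he⟩
    have hcl : (Subgroup.closure ({⟨a, trivial⟩, ⟨b, trivial⟩} : Set (⊤ : Subgroup G))).map (⊤ : Subgroup G).subtype =
        Subgroup.closure ({a, b} : Set G) := by
      rw [MonoidHom.map_closure, Set.image_pair]; rfl
    rw [← hcl, ← Subgroup.map_commutator]
    refine (show (Cfsg.powerClosure p n ⁅Subgroup.closure ({⟨a, trivial⟩, ⟨b, trivial⟩} : Set (⊤ : Subgroup G)), Subgroup.closure ({⟨a, trivial⟩, ⟨b, trivial⟩} : Set (⊤ : Subgroup G))⁆).map (⊤ : Subgroup G).subtype ≤ _ from ?_) ⟨c, hc, rfl⟩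
    rw [Cfsg.powerClosure, MonoidHom.map_closure, Subgroup.closure_le]
    rintro _ ⟨_, ⟨x, hx, rfl⟩, rfl⟩
    exact Subgroup.subset_closure ⟨_, Subgroup.mem_map_of_mem _ hx, map_pow _ _ _⟩
  intro N
  induction N using Nat.strong_induction_on with
  | _ N ih =>
    intro H hN
    refine ⟨hG.to_subgroup H, fun a' b' n => ?_⟩
    obtain ⟨a, ha⟩ := a'
    obtain ⟨b, hb⟩ := b'
    -- work with the subgroup generated by `a` and `b` inside `G`
    set K := Subgroup.closure ({a, b} : Set G) with hK
    have hKH : K ≤ H := (Subgroup.closure_le _).mpr (by rintro z (rfl | rfl); exacts [ha, hb])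
    have hmap : (Subgroup.closure ({⟨a, ha⟩, ⟨b, hb⟩} : Set H)).map H.subtype = K := by
      rw [MonoidHom.map_closure, Set.image_pair]; rfl
    suffices hgoal : ∃ c ∈ Cfsg.powerClosure p n (⁅K, K⁆ : Subgroup G),
        (a * b) ^ p ^ n = a ^ p ^ n * b ^ p ^ n * c by
      obtain ⟨c, hc, he⟩ := hgoal
      have : Cfsg.powerClosure p n (⁅K, K⁆ : Subgroup G) ≤
          (Cfsg.powerClosure p n ⁅Subgroup.closure ({⟨a, ha⟩, ⟨b, hb⟩} : Set H), Subgroup.closure ({⟨a, ha⟩, ⟨b, hb⟩} : Set H)⁆).map H.subtype := by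
        rw [← hmap, ← Subgroup.map_commutator, Cfsg.powerClosure, Subgroup.closure_le]
        rintro _ ⟨_, ⟨x, hx, rfl⟩, rfl⟩
        exact ⟨x ^ p ^ n, Subgroup.subset_closure ⟨x, hx, rfl⟩, map_pow _ _ _⟩
      obtain ⟨c', hc', rfl⟩ := this hc
      exact ⟨c', hc', Subtype.ext (by simpa using he)⟩
    rename' a => x, b => y
    have hxK : x ∈ K := Subgroup.subset_closure (Set.mem_insert _ _)
    have hyK : y ∈ K := Subgroup.subset_closure (Set.mem_insert_of_mem _ rfl)
    by_cases hKc : IsMulCommutative K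
    · exact ⟨1, Subgroup.one_mem _, by rw [(commute_of_isMulCommutative hKc hxK hyK).mul_pow, mul_one]⟩
    set D : Subgroup G := ⁅K, K⁆ with hD
    have hDK : D ≤ K := Subgroup.commutator_le.mpr fun a ha b hb => K.mul_mem (K.mul_mem (K.mul_mem ha hb) (K.inv_mem ha)) (K.inv_mem hb)
    induction n with
    | zero =>
      refine ⟨(x * y)⁻¹ * (x * y), ?_, by simp⟩
      rw [inv_mul_cancel]; exact Subgroup.one_mem _
    | succ n _ =>
      -- the subgroup generated by `p`-th powers is proper
      set M : Subgroup G := Cfsg.powerClosure p 1 K with hM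
      have hMlt : Nat.card M < Nat.card K := by
        have hle : M ≤ K := (Subgroup.closure_le _).mpr (by rintro _ ⟨z, hz, rfl⟩; exact K.pow_mem hz _)
        refine lt_of_le_of_ne (Subgroup.card_le_of_le hle) fun heq => hKc ?_
        haveI : Nontrivial K := by
          by_contra hnt
          rw [not_nontrivial_iff_subsingleton] at hnt
          exact hKc ⟨⟨fun _ _ => Subsingleton.elim _ _⟩⟩
        obtain ⟨C, hC, -⟩ := (IsCoatomic.eq_top_or_exists_le_coatom (⊥ : Subgroup K)).resolve_left bot_ne_top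
        exfalso
        have hMC : M ≤ C.map K.subtype := by
          rw [hM, Cfsg.powerClosure, Subgroup.closure_le]
          rintro _ ⟨z, hz, rfl⟩
          rw [pow_one]
          exact ⟨⟨z, hz⟩ ^ p, (coatom_facts (hG.to_subgroup K) hC).2 _, rfl⟩
        apply hC.1
        rw [eq_top_iff]
        intro z _
        have := hMC ((Subgroup.eq_of_le_of_card_ge hle heq.ge).ge z.2)
        obtain ⟨w, hw, hwz⟩ := this
        exact (Subtype.ext hwz : w = z) ▸ hw
      have hM' : ∀ u v : G, u ∈ M → v ∈ M → ∃ e ∈ Cfsg.powerClosure p (n + 1) D,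
          (u * v) ^ p ^ n = u ^ p ^ n * v ^ p ^ n * e := by
        intro u v hu hv
        have hregM := ih _ (hMlt.trans_le (hN ▸ Subgroup.card_le_of_le hKH)) M rfl
        obtain ⟨e, he, heq⟩ := hregM.2 ⟨u, hu⟩ ⟨v, hv⟩ n
        refine ⟨(e : G), ?_, congrArg Subtype.val heq⟩
        -- [M, M] is generated by p-th powers of elements of D
        have hD1 : (⁅M, M⁆ : Subgroup G) ≤ Cfsg.powerClosure p 1 D := by
          haveI hregD : Cfsg.IsRegularPGroup p D := ih _ ((card_commutator_lt hG K hKc).trans_le (hN ▸ Subgroup.card_le_of_le hKH)) D rfl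
          rw [hM, Cfsg.powerClosure, Subgroup.commutator_le]
          have hnorm : ∀ g ∈ K, ∀ t ∈ Cfsg.powerClosure p 1 D, g * t * g⁻¹ ∈ Cfsg.powerClosure p 1 D := by
            intro g hg t ht
            induction ht using Subgroup.closure_induction with
            | mem t ht =>
              obtain ⟨z, hz, rfl⟩ := ht
              exact Subgroup.subset_closure ⟨g * z * g⁻¹, commutator_normalized K g hg z hz, conj_pow.symm⟩
            | one => simp
            | mul s t _ _ h1 h2 => simpa [mul_assoc] using Subgroup.mul_mem _ h1 h2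
            | inv s _ h1 => simpa [mul_assoc] using Subgroup.inv_mem _ h1
          have hgen : ∀ g z : G, g ∈ K → z ∈ K → ⁅g, z ^ p ^ 1⁆ ∈ Cfsg.powerClosure p 1 D := by
            intro g z hg hz
            obtain ⟨c, hc, he'⟩ := h (g * z * g⁻¹) z⁻¹
            have h1 : ⁅g, z ^ p ^ 1⁆ = (g * z * g⁻¹) ^ p * z⁻¹ ^ p := by
              rw [pow_one, conj_pow, inv_pow, commutatorElement_def]
            rw [h1, ← mul_inv_eq_iff_eq_mul.mpr he']
            refine Subgroup.mul_mem _ (Subgroup.subset_closure ⟨g * z * g⁻¹ * z⁻¹, Subgroup.commutator_mem_commutator hg hz, by rw [pow_one]⟩)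
              (Subgroup.inv_mem _ (Subgroup.subset_closure ⟨c, ?_, by rw [pow_one]⟩))
            refine Subgroup.commutator_mono ?_ ?_ hc <;>
              exact (Subgroup.closure_le _).mpr (by rintro w (rfl | rfl); exacts [K.mul_mem (K.mul_mem hg hz) (K.inv_mem hg), K.inv_mem hz])
          intro g hg z hz
          have hgK : g ∈ K := (Subgroup.closure_le _).mpr (by rintro _ ⟨w, hw, rfl⟩; exact K.pow_mem hw _) hg
          induction hz using Subgroup.closure_induction with
          | mem w hw =>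
            obtain ⟨t, ht, rfl⟩ := hw
            exact hgen g t hgK ht
          | one => simp
          | mul s t hs ht h1 h2 =>
            have hsK : s ∈ K := (Subgroup.closure_le _).mpr (by rintro _ ⟨w, hw, rfl⟩; exact K.pow_mem hw _) hs
            rw [show ⁅g, s * t⁆ = ⁅g, s⁆ * (s * ⁅g, t⁆ * s⁻¹) by simp only [commutatorElement_def]; group]
            exact Subgroup.mul_mem _ h1 (hnorm s hsK _ h2)
          | inv s hs h1 =>
            have hsK : s ∈ K := (Subgroup.closure_le _).mpr (by rintro _ ⟨w, hw, rfl⟩; exact K.pow_mem hw _) hs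
            rw [show ⁅g, s⁻¹⁆ = s⁻¹ * ⁅g, s⁆⁻¹ * s⁻¹⁻¹ by simp only [commutatorElement_def]; group]
            exact hnorm _ (K.inv_mem hsK) _ (Subgroup.inv_mem _ h1)
        have hregD : Cfsg.IsRegularPGroup p D := ih _ ((card_commutator_lt hG K hKc).trans_le (hN ▸ Subgroup.card_le_of_le hKH)) D rfl
        have hmapM : (Subgroup.closure ({⟨u, hu⟩, ⟨v, hv⟩} : Set M)).map M.subtype ≤ M := Subgroup.map_subtype_le _
        have hsub : (Cfsg.powerClosure p n ⁅Subgroup.closure ({⟨u, hu⟩, ⟨v, hv⟩} : Set M), Subgroup.closure ({⟨u, hu⟩, ⟨v, hv⟩} : Set M)⁆).map M.subtype ≤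
            Cfsg.powerClosure p (n + 1) D := by
          rw [Cfsg.powerClosure, MonoidHom.map_closure, Subgroup.closure_le]
          rintro _ ⟨_, ⟨z, hz, rfl⟩, rfl⟩
          have hzD : (z : G) ∈ Cfsg.powerClosure p 1 D := by
            apply hD1
            have h2 := Subgroup.mem_map_of_mem M.subtype hz
            rw [Subgroup.map_commutator] at h2
            exact Subgroup.commutator_mono hmapM hmapM h2
          -- elements of the power subgroup of D are powers
          obtain ⟨d, hd, hde⟩ : ∃ d ∈ D, (z : G) = d ^ p := by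
            have h3 := powerClosure_eq hregD 1 ⊤
            have h4 : Cfsg.powerClosure p 1 D ≤ (Cfsg.powerClosure p 1 (⊤ : Subgroup D)).map D.subtype := by
              rw [Cfsg.powerClosure, Subgroup.closure_le]
              rintro _ ⟨w, hw, rfl⟩
              exact ⟨⟨w, hw⟩ ^ p ^ 1, Subgroup.subset_closure ⟨⟨w, hw⟩, trivial, rfl⟩, rfl⟩
            obtain ⟨w, hw, hwe⟩ := h4 hzD
            rw [← h3] at hw
            obtain ⟨t, -, rfl⟩ := hw
            exact ⟨t, t.2, by rw [← hwe, pow_one, map_pow]; rfl⟩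
          refine Subgroup.subset_closure ⟨d, hd, ?_⟩
          rw [map_pow, Subgroup.coe_subtype, hde, ← pow_mul, ← pow_succ']
        exact hsub ⟨e, he, rfl⟩
      obtain ⟨c, hc, he⟩ := h x y
      have hp1 : ∀ z ∈ K, z ^ p ∈ M := fun z hz => Subgroup.subset_closure ⟨z, hz, by rw [pow_one]⟩
      obtain ⟨e1, he1, hq1⟩ := hM' _ _ (M.mul_mem (hp1 x hxK) (hp1 y hyK)) (hp1 c (hDK hc))
      obtain ⟨e2, he2, hq2⟩ := hM' _ _ (hp1 x hxK) (hp1 y hyK)
      refine ⟨e2 * (c ^ p) ^ p ^ n * e1, Subgroup.mul_mem _ (Subgroup.mul_mem _ he2 (Subgroup.subset_closure ⟨c, hc, ?_⟩)) he1, ?_⟩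
      · rw [← pow_mul, ← pow_succ']
      · rw [pow_succ', pow_mul, he, hq1, hq2, ← pow_mul x p, ← pow_mul y p]
        group

end CfsgLib.Regular
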